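import Groth.Agent.LimProper.Ultra
import Groth.Agent.LimMore.Compact

/-!
Universally closed and proper morphisms of finite type descend to a stage.
-/

set_option autoImplicit false
set_option linter.style.haveILetI false
set_option backward.isDefEq.respectTransparency false

universe u

open CategoryTheory CategoryTheory.Limits AlgebraicGeometry

namespace Groth.Agent.LimProper

open LimDesc

variable {I : Type u} [SmallCategory I] [IsCofiltered I] (D : I ⥤ Scheme.{u})
  [∀ {i j} (f : i ⟶ j), IsAffineHom (D.map f)] {i₀ : I}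
variable (c : Cone D) (hc : IsLimit c)
variable {X₀ Y₀ : Scheme.{u}} (f₀ : X₀ ⟶ Y₀) (g₀ : Y₀ ⟶ D.obj i₀)
variable {X Y : Scheme.{u}} {f : X ⟶ Y} {g : Y ⟶ c.pt} {qY : Y ⟶ Y₀} {qX : X ⟶ X₀}
variable (hY : IsPullback qY g g₀ (c.π.app i₀)) (hX : IsPullback qX f f₀ qY)

include hc hY hX in
/-- universally closed morphisms of finite type descend; only the target needs to be quasi-compact -/
theorem exists_universallyClosed [CompactSpace Y₀] [QuasiCompact f₀] [LocallyOfFiniteType f₀]
    [UniversallyClosed f] : ∃ j : Over i₀, UniversallyClosed (stageMap D g₀ f₀ j) := by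
  classical
  let 𝒰 := Y₀.affineCover.finiteSubcover
  let V (k : 𝒰.I₀) : Y₀.Opens := (𝒰.f k).opensRange
  have hV (k) : IsAffineOpen (V k) := by
    have : IsAffine (𝒰.X k) := by dsimp [𝒰]; infer_instance
    exact isAffineOpen_opensRange _
  have key : ∀ k, ∃ j : Over i₀,
      UniversallyClosed (pullback.snd f₀ (toBase D ((V k).ι ≫ g₀) j ≫ (V k).ι)) := by
    intro k
    let gV := (V k).ι ≫ g₀
    have hYV : IsPullback (qY ∣_ V k) ((qY ⁻¹ᵁ V k).ι ≫ g) gV (c.π.app i₀) :=
      (isPullback_morphismRestrict qY (V k)).paste_vert hY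
    haveI : IsAffine (V k).toScheme := hV k
    let E := tower D gV
    haveI : ∀ l, IsAffine (E.obj l) := fun l => by
      haveI := isAffineHom_toBase D gV l
      exact isAffine_of_isAffineHom (toBase D gV l)
    let o : Over i₀ := Over.mk (𝟙 i₀)
    haveI hiso : IsIso (toBase D gV o) := by
      haveI : IsIso (D.map o.hom) := by
        change IsIso (D.map (𝟙 i₀))
        rw [D.map_id]
        infer_instance
      infer_instance
    let p : (f₀ ⁻¹ᵁ V k).toScheme ⟶ E.obj o := (f₀ ∣_ V k) ≫ inv (toBase D gV o)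
    haveI : QuasiCompact p := inferInstance
    haveI : LocallyOfFiniteType p := inferInstance
    let cE := towerCone D gV c hYV
    have hb : ∀ {Z : Scheme.{u}} (a : Z ⟶ E.obj o),
        IsPullback (pullback.fst p a ≫ (f₀ ⁻¹ᵁ V k).ι) (pullback.snd p a) f₀ (a ≫ toBase D gV o ≫ (V k).ι) := by
      intro Z a
      have h1 : IsPullback (f₀ ⁻¹ᵁ V k).ι p f₀ (toBase D gV o ≫ (V k).ι) := by
        refine (isPullback_morphismRestrict f₀ (V k)).flip.of_iso (Iso.refl _) (Iso.refl _)
          (asIso (toBase D gV o)).symm (Iso.refl _) ?_ ?_ ?_ ?_ <;> simp [p]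
      exact (IsPullback.of_hasPullback p a).paste_horiz h1
    haveI : UniversallyClosed (pullback.snd p (cE.π.app o)) := by
      have e : cE.π.app o ≫ toBase D gV o ≫ (V k).ι = (qY ⁻¹ᵁ V k).ι ≫ qY := by
        rw [← Category.assoc, towerCone_π_app, proj_toBase, morphismRestrict_ι]
      have h2 := hb (cE.π.app o)
      rw [e] at h2
      let r : pullback p (cE.π.app o) ⟶ X := hX.lift (pullback.fst p (cE.π.app o) ≫ (f₀ ⁻¹ᵁ V k).ι)
        (pullback.snd p (cE.π.app o) ≫ (qY ⁻¹ᵁ V k).ι) (by rw [h2.w, Category.assoc])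
      have h3 : IsPullback r (pullback.snd p (cE.π.app o)) f (qY ⁻¹ᵁ V k).ι :=
        IsPullback.of_right (by simp only [r, hX.lift_fst]; exact h2) (hX.lift_snd _ _ _) hX
      exact MorphismProperty.of_isPullback (P := @UniversallyClosed) h3 inferInstance
    obtain ⟨l, hl⟩ := exists_universallyClosed_of_affine E cE (isLimitTowerCone D gV c hYV hc) (o := o) p
    refine ⟨l.left, ?_⟩
    have h4 := hb (E.map l.hom)
    rw [show E.map l.hom ≫ toBase D gV o ≫ (V k).ι = toBase D gV l.left ≫ (V k).ι by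
      rw [← Category.assoc]; exact congrArg (· ≫ (V k).ι) (trans_toBase D gV l.hom)] at h4
    rw [← h4.isoPullback_inv_snd]
    infer_instance
  choose j hj using key
  cases nonempty_fintype 𝒰.I₀
  obtain ⟨n, hn⟩ := IsCofiltered.inf_objs_exists (Finset.univ.image j)
  refine ⟨n, IsZariskiLocalAtTarget.of_iSup_eq_top (fun k => toBase D g₀ n ⁻¹ᵁ V k) ?_ fun k => ?_⟩
  · rw [← Scheme.Hom.preimage_iSup, 𝒰.iSup_opensRange]; rfl
  · let U := toBase D g₀ n ⁻¹ᵁ V k
    have a : n ⟶ j k := (hn (Finset.mem_image_of_mem j (Finset.mem_univ k))).some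
    let b := toBase D ((V k).ι ≫ g₀) (j k) ≫ (V k).ι
    let h : U.toScheme ⟶ stage D ((V k).ι ≫ g₀) (j k) :=
      pullback.lift (toBase D g₀ n ∣_ V k) (U.ι ≫ toStage D g₀ n ≫ D.map a.left) (by
        rw [← Category.assoc, morphismRestrict_ι, Category.assoc, (isPullback_stage D g₀ n).w, Category.assoc,
          Category.assoc, ← D.map_comp, Over.w a])
    have hh : h ≫ b = U.ι ≫ toBase D g₀ n := by
      simp only [h, b]
      rw [← Category.assoc, lift_toBase, morphismRestrict_ι]
    have h5 := (isPullback_morphismRestrict (stageMap D g₀ f₀ n) U).flip.paste_horiz (isPullback_stageMap D g₀ f₀ n)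
    rw [← hh] at h5
    have h6 := IsPullback.of_right (h₁₁ := pullback.lift _ ((stageMap D g₀ f₀ n ∣_ U) ≫ h) (by rw [h5.w, Category.assoc]))
      (by rw [pullback.lift_fst]; exact h5) (pullback.lift_snd _ _ _) (IsPullback.of_hasPullback f₀ b)
    exact MorphismProperty.of_isPullback (P := @UniversallyClosed) h6 (hj k)

include hc hY hX in
/-- proper morphisms descend; only the target needs to be quasi-compact -/
theorem exists_isProper [CompactSpace Y₀] [QuasiCompact f₀] [QuasiSeparated f₀] [LocallyOfFiniteType f₀]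
    [IsProper f] : ∃ j : Over i₀, IsProper (stageMap D g₀ f₀ j) := by
  obtain ⟨j₁, hj₁⟩ := exists_universallyClosed D c hc f₀ g₀ hY hX
  obtain ⟨j₂, hj₂⟩ := LimMore.exists_isSeparated_of_compactSpace D c hc f₀ g₀ hY hX
  obtain ⟨l, e₁, e₂, -⟩ := IsCofilteredOrEmpty.cone_objs j₁ j₂
  haveI : UniversallyClosed (stageMap D g₀ f₀ l) :=
    MorphismProperty.of_isPullback (P := @UniversallyClosed) (isPullback_trans_stageMap D g₀ f₀ e₁) hj₁
  haveI : IsSeparated (stageMap D g₀ f₀ l) :=
    MorphismProperty.of_isPullback (P := @IsSeparated) (isPullback_trans_stageMap D g₀ f₀ e₂) hj₂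
  haveI : LocallyOfFiniteType (stageMap D g₀ f₀ l) :=
    MorphismProperty.of_isPullback (P := @LocallyOfFiniteType) (isPullback_stageMap D g₀ f₀ l) inferInstance
  exact ⟨l, IsProper.mk⟩

end Groth.Agent.LimProper
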