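import Groth.Agent.DvrDom.Spread
import Mathlib.AlgebraicGeometry.ValuativeCriterion
import Mathlib.AlgebraicGeometry.AffineTransitionLimit
import Mathlib.CategoryTheory.Filtered.Final
import Mathlib.CategoryTheory.Comma.Over.Basic

/-!
Universal closedness descends along limits of affine schemes (ultraproduct form of the valuative criterion).
-/

set_option autoImplicit false
set_option linter.style.haveILetI false

universe u

open CategoryTheory CategoryTheory.Limits AlgebraicGeometry IsLocalRing Filter Opposite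

namespace Groth.Agent.LimProper

open Groth.Agent.DvrDom

attribute [local instance] CategoryTheory.isConnected_of_hasTerminal

variable {J : Type u} [SmallCategory J] [IsCofiltered J]

/-- A finite piece of the index category. -/
abbrev Piece (C : Type u) [Category.{u} C] : Type u := Finset (Σ (X : C) (Y : C), X ⟶ Y)

open Classical in
/-- The objects of a piece. -/
noncomputable def Piece.objs {C : Type u} [Category.{u} C] (G : Piece C) : Finset C :=
  G.image (fun f => f.1) ∪ G.image (fun f => f.2.1)

open Classical in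
theorem Piece.src_mem {C : Type u} [Category.{u} C] {G : Piece C} {X Y : C} {f : X ⟶ Y} (h : ⟨X, Y, f⟩ ∈ G) :
    X ∈ G.objs :=
  Finset.mem_union_left _ (Finset.mem_image.2 ⟨_, h, rfl⟩)

open Classical in
theorem Piece.tgt_mem {C : Type u} [Category.{u} C] {G : Piece C} {X Y : C} {f : X ⟶ Y} (h : ⟨X, Y, f⟩ ∈ G) :
    Y ∈ G.objs :=
  Finset.mem_union_right _ (Finset.mem_image.2 ⟨_, h, rfl⟩)

theorem exists_cone_of_piece {C : Type u} [Category.{u} C] [IsCofiltered C] (G : Piece C) :
    ∃ (S : C) (T : ∀ {X : C}, X ∈ G.objs → (S ⟶ X)),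
      ∀ {X Y : C} {f : X ⟶ Y} (h : ⟨X, Y, f⟩ ∈ G), T (Piece.src_mem h) ≫ f = T (Piece.tgt_mem h) := by
  classical
  let H : Finset (Σ' (X Y : C) (_ : X ∈ G.objs) (_ : Y ∈ G.objs), X ⟶ Y) :=
    G.attach.image fun f => ⟨f.1.1, f.1.2.1, Piece.src_mem (X := f.1.1) (Y := f.1.2.1) (f := f.1.2.2) f.2,
      Piece.tgt_mem (X := f.1.1) (Y := f.1.2.1) (f := f.1.2.2) f.2, f.1.2.2⟩
  have h := IsCofiltered.inf_exists G.objs H
  obtain ⟨S, T, hT⟩ := h
  exact ⟨S, T, fun h => hT _ _ (Finset.mem_image.2 ⟨⟨_, h⟩, Finset.mem_attach _ _, rfl⟩)⟩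

variable (E : J ⥤ Scheme.{u}) [∀ j, IsAffine (E.obj j)] (d : Cone E) (hd : IsLimit d) {o : J}
variable {W : Scheme.{u}} (p : W ⟶ E.obj o) [LocallyOfFiniteType p] [QuasiCompact p]

set_option maxHeartbeats 2000000 in
include hd in
/-- Universal closedness descends to a stage. -/
theorem exists_universallyClosed_of_affine [H : UniversallyClosed (pullback.snd p (d.π.app o))] :
    ∃ l : Over o, UniversallyClosed (pullback.snd p (E.map l.hom)) := by
  classical
  by_contra hcon
  push Not at hcon
  have hno : ∀ l : Over o, ∃ S : ValuativeCommSq (pullback.snd p (E.map l.hom)), ¬ S.commSq.HasLift := by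
    intro l
    by_contra hS
    push Not at hS
    haveI : QuasiCompact (pullback.snd p (E.map l.hom)) := MorphismProperty.pullback_snd _ _ inferInstance
    exact hcon l (UniversallyClosed.of_valuativeCriterion _ hS)
  choose Sof hSno using hno
  -- pieces of the index category
  let P := Piece (Over o)
  have hcone := fun G : P => exists_cone_of_piece G
  choose St T hT using hcone
  let S := fun t : P => Sof (St t)
  let x : ∀ t : P, Spec (CommRingCat.of (S t).K) ⟶ W := fun t => (S t).i₁ ≫ pullback.fst p (E.map (St t).hom)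
  let b : ∀ t : P, Spec (CommRingCat.of (S t).R) ⟶ E.obj (St t).left := fun t => (S t).i₂
  have hxb : ∀ t, x t ≫ p = Spec.map (CommRingCat.ofHom (algebraMap (S t).R (S t).K)) ≫ b t ≫ E.map (St t).hom := by
    intro t
    rw [Category.assoc, pullback.condition, ← Category.assoc, (S t).commSq.w, Category.assoc]
  -- the ultrafilter
  haveI : Nonempty P := ⟨∅⟩
  have hne : (⨅ G : P, 𝓟 {t : P | G ⊆ t}).NeBot := by
    refine iInf_neBot_of_directed ?_ fun G => principal_neBot_iff.mpr ⟨G, le_refl G⟩
    exact fun a c => ⟨a ∪ c, principal_mono.mpr fun t ht => Finset.union_subset_left ht,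
      principal_mono.mpr fun t ht => Finset.union_subset_right ht⟩
  let F : Ultrafilter P := Ultrafilter.of (⨅ G : P, 𝓟 {t : P | G ⊆ t})
  have hF : ∀ G : P, ∀ᶠ t in (F : Filter P), G ⊆ t := fun G =>
    Ultrafilter.of_le _ (mem_iInf_of_mem G (mem_principal_self _))
  let K : P → Type u := fun t => (S t).K
  let instK : ∀ t, Field (K t) := fun t => (S t).field
  let Vv : ∀ t, ValuationSubring (K t) := fun t =>
    ⟨(algebraMap (S t).R (S t).K).range, ValuationRing.isInteger_or_isInteger (S t).R⟩
  let Vs := UProd.valSubring F K Vv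
  -- the point in a chart
  haveI : CompactSpace W := QuasiCompact.compactSpace_of_compactSpace p
  obtain ⟨cov, hcov⟩ := isCompact_univ.elim_finite_subcover (fun U : W.affineOpens => (U.1 : Set W))
    (fun U => U.1.2) (fun w _ => by
      obtain ⟨_, ⟨U, hU, rfl⟩, hw, -⟩ := W.isBasis_affineOpens.exists_subset_of_mem_open (Set.mem_univ w) isOpen_univ
      exact Set.mem_iUnion.mpr ⟨⟨U, hU⟩, hw⟩)
  let px : P → W.affineOpens → Prop := fun t U => x t (closedPoint (S t).K) ∈ U.1
  obtain ⟨j, -, hj⟩ : ∃ U ∈ (cov : Set W.affineOpens), ∀ᶠ t in (F : Filter P), px t U := by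
    refine (Ultrafilter.eventually_exists_mem_iff (f := F) (P := fun U t => px t U) cov.finite_toSet).mp
      (Eventually.of_forall fun t => ?_)
    simpa [px] using hcov (Set.mem_univ (x t (closedPoint (S t).K)))
  have hrK : ∀ t U, px t U → Set.range (x t) ⊆ (U.1 : Set W) := fun t U h => range_subset_of_closedPoint_mem _ h
  let η : ∀ t (U : W.affineOpens), px t U → (Γ(W, U.1) →+* K t) := fun t U h =>
    (pointHom U.2 (x t) (hrK t U h)).hom
  let φ : Γ(W, j.1) →+* UProd.Prod F K := UProd.assemble F K (px · j) hj fun t h => η t j h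
  -- the rings of the stages
  have hA : ∀ a : Over o, IsAffineOpen (⊤ : (E.obj a.left).Opens) := fun a => isAffineOpen_top _
  let q : P → Over o → Prop := fun t a => a ∈ Piece.objs t
  have hq : ∀ a, ∀ᶠ t in (F : Filter P), q t a := fun a => by
    filter_upwards [hF {⟨a, a, 𝟙 a⟩}] with t ht
    exact Piece.src_mem (ht (Finset.mem_singleton_self _))
  let ρ : ∀ t a, q t a → (Γ(E.obj a.left, ⊤) →+* (S t).R) := fun t a h =>
    (pointHom (hA a) (b t ≫ E.map (T t h).left) (by simp)).hom
  let θ : ∀ a : Over o, Γ(E.obj a.left, ⊤) →+* UProd.Prod F K := fun a =>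
    UProd.assemble F K (q · a) (hq a) fun t h => (algebraMap (S t).R (S t).K).comp (ρ t a h)
  have hθ : ∀ a z, θ a z ∈ Vs := by
    intro a z
    let f : ∀ t, K t := fun t => if h : q t a then algebraMap (S t).R (S t).K (ρ t a h z) else 0
    have e : θ a z = UProd.mk F K f := UProd.assemble_apply F K _ (hq a) _ z f
      (Eventually.of_forall fun t h => by simp only [f, dif_pos h]; rfl)
    rw [e]
    refine (UProd.mk_mem_valSubring_iff F K Vv).mpr (Eventually.of_forall fun t => ?_)
    simp only [f]
    split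
    · exact ⟨_, rfl⟩
    · exact (Vv t).zero_mem
  let θs : ∀ a : Over o, Γ(E.obj a.left, ⊤) →+* Vs := fun a => (θ a).codRestrict Vs.toSubring (hθ a)
  let β : ∀ a : Over o, Spec (CommRingCat.of Vs) ⟶ E.obj a.left := fun a =>
    Spec.map (CommRingCat.ofHom (θs a)) ≫ (hA a).fromSpec
  have hβ : ∀ {a a' : Over o} (f : a ⟶ a'), β a ≫ E.map f.left = β a' := by
    intro a a' f
    simp only [β, Category.assoc]
    rw [← IsAffineOpen.SpecMap_appLE_fromSpec (E.map f.left) (hA a') (hA a) le_top, ← Spec.map_comp_assoc]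
    refine congrArg (fun χ => Spec.map χ ≫ (hA a').fromSpec) ?_
    ext z
    show θ a (((E.map f.left).appLE ⊤ ⊤ le_top).hom z) = θ a' z
    let g : ∀ t, K t := fun t => if h : q t a' then algebraMap (S t).R (S t).K (ρ t a' h z) else 0
    have e2 : θ a' z = UProd.mk F K g := UProd.assemble_apply F K _ (hq a') _ z g
      (Eventually.of_forall fun t h => by simp only [g, dif_pos h]; rfl)
    rw [e2]
    refine UProd.assemble_apply F K _ (hq a) _ _ g ?_
    filter_upwards [hF {⟨a, a', f⟩}] with t ht h
    have hm := ht (Finset.mem_singleton_self _)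
    simp only [g, dif_pos (show q t a' from Piece.tgt_mem hm)]
    refine congrArg (algebraMap (S t).R (S t).K) ?_
    have : (E.map f.left).appLE ⊤ ⊤ le_top ≫ pointHom (hA a) (b t ≫ E.map (T t h).left) (by simp) =
        pointHom (hA a') (b t ≫ E.map (T t (Piece.tgt_mem hm)).left) (by simp) := by
      apply pointHom_ext (hA a')
      rw [Spec.map_comp, Category.assoc, IsAffineOpen.SpecMap_appLE_fromSpec (E.map f.left) (hA a') (hA a) le_top,
        ← Category.assoc, SpecMap_pointHom, SpecMap_pointHom, Category.assoc, ← E.map_comp, ← Over.comp_left,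
        hT t hm]
    exact congr($(this).hom z)
  let cβ : Cone (Over.forget o ⋙ E) :=
    { pt := Spec (CommRingCat.of Vs)
      π := { app := β, naturality := fun a a' f => by simpa using (hβ f).symm } }
  let hd' : IsLimit (Cone.whisker (Over.forget o) d) := (Functor.Initial.isLimitWhiskerEquiv (Over.forget o) d).symm hd
  let bs : Spec (CommRingCat.of Vs) ⟶ d.pt := hd'.lift cβ
  let o' : Over o := Over.mk (𝟙 o)
  have hbs : bs ≫ d.π.app o = β o' := hd'.fac cβ o'
  -- the square
  have hA' : IsAffineOpen (⊤ : (E.obj o).Opens) := isAffineOpen_top _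
  let xs : Spec (CommRingCat.of (UProd.Prod F K)) ⟶ W := Spec.map (CommRingCat.ofHom φ) ≫ j.2.fromSpec
  have hη : ∀ t (U : W.affineOpens) (h : px t U) (h' : q t o') (z : Γ(E.obj o, ⊤)),
      η t U h ((p.appLE ⊤ U.1 le_top).hom z) = algebraMap (S t).R (S t).K (ρ t o' h' z) := by
    intro t U h h' z
    have : p.appLE ⊤ U.1 le_top ≫ pointHom U.2 (x t) (hrK t U h) =
        pointHom (hA o') (b t ≫ E.map (T t h').left) (by simp) ≫
          CommRingCat.ofHom (algebraMap (S t).R (S t).K) := by
      apply pointHom_ext hA'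
      rw [Spec.map_comp, Category.assoc, IsAffineOpen.SpecMap_appLE_fromSpec p hA' U.2 le_top,
        ← Category.assoc, SpecMap_pointHom, Spec.map_comp, Category.assoc (Spec.map _) (Spec.map _) _,
        show Spec.map (pointHom (hA o') (b t ≫ E.map (T t h').left) (by simp)) ≫ hA'.fromSpec = _ from
          SpecMap_pointHom (hA o') _ _, hxb t]
      have e : (T t h').left = (St t).hom := by simpa [o'] using Over.w (T t h')
      rw [e]
    exact congr($(this).hom z)
  have hxp : xs ≫ p = Spec.map (CommRingCat.ofHom Vs.subtype) ≫ β o' := by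
    simp only [xs, β, Category.assoc]
    rw [← IsAffineOpen.SpecMap_appLE_fromSpec p hA' j.2 le_top, ← Spec.map_comp_assoc, ← Spec.map_comp_assoc]
    refine congrArg (fun χ => Spec.map χ ≫ hA'.fromSpec) ?_
    ext z
    show φ ((p.appLE ⊤ j.1 le_top).hom z) = θ o' z
    let g : ∀ t, K t := fun t => if h : q t o' then algebraMap (S t).R (S t).K (ρ t o' h z) else 0
    have e2 : θ o' z = UProd.mk F K g := UProd.assemble_apply F K _ (hq o') _ z g
      (Eventually.of_forall fun t h => by simp only [g, dif_pos h]; rfl)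
    rw [e2]
    refine UProd.assemble_apply F K _ hj _ _ g ?_
    filter_upwards [hq o'] with t ht h
    simp only [g, dif_pos ht]
    exact hη t j h ht z
  let xp : Spec (CommRingCat.of (UProd.Prod F K)) ⟶ pullback p (d.π.app o) :=
    pullback.lift xs (Spec.map (CommRingCat.ofHom Vs.subtype) ≫ bs) (by rw [hxp, Category.assoc, hbs])
  let S₁ : ValuativeCommSq (pullback.snd p (d.π.app o)) :=
    { R := Vs
      K := UProd.Prod F K
      i₁ := xp
      i₂ := bs
      commSq := ⟨pullback.lift_snd _ _ _⟩ }
  have hval : ValuativeCriterion.Existence (pullback.snd p (d.π.app o)) := by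
    have h := H
    rw [UniversallyClosed.eq_valuativeCriterion] at h
    exact h.1
  obtain ⟨⟨lz, hl₁, hl₂⟩⟩ := (hval S₁).exists_lift
  let l := lz ≫ pullback.fst p (d.π.app o)
  have hpsl : Spec.map (CommRingCat.ofHom Vs.subtype) ≫ l = xs := by
    rw [← Category.assoc]
    exact (congrArg (· ≫ _) hl₁).trans (pullback.lift_fst _ _ _)
  obtain ⟨m, -, hm⟩ : ∃ m ∈ cov, l (closedPoint Vs) ∈ m.1 := by simpa using hcov (Set.mem_univ (l (closedPoint Vs)))
  have hlU : Set.range l ⊆ (m.1 : Set W) := range_subset_of_closedPoint_mem _ hm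
  let ψ := pointHom m.2 l hlU
  have hpsj : Set.range xs ⊆ (j.1 : Set W) := by
    rintro _ ⟨z, rfl⟩
    rw [← j.2.range_fromSpec]
    exact ⟨_, (Scheme.Hom.comp_apply _ _ z).symm⟩
  have hpsm : Set.range xs ⊆ (m.1 : Set W) := by
    rw [← hpsl]
    rintro _ ⟨z, rfl⟩
    exact hlU ⟨_, (Scheme.Hom.comp_apply _ _ z).symm⟩
  have hφps : pointHom j.2 xs hpsj = CommRingCat.ofHom φ := pointHom_ext _ (SpecMap_pointHom _ _ _)
  have hψps : pointHom m.2 xs hpsm = ψ ≫ CommRingCat.ofHom Vs.subtype :=
    pointHom_ext _ (by rw [SpecMap_pointHom, Spec.map_comp, Category.assoc, SpecMap_pointHom, hpsl])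
  obtain ⟨g, g', hgg, hpg⟩ := exists_basicOpen_le_affine_inter j.2 m.2
    (xs (closedPoint (UProd.Prod F K))) ⟨hpsj ⟨_, rfl⟩, hpsm ⟨_, rfl⟩⟩
  have hD : IsAffineOpen (W.basicOpen g) := j.2.basicOpen g
  have hDm : W.basicOpen g ≤ m.1 := hgg ▸ W.basicOpen_le g'
  have hgne : φ g ≠ 0 := by
    have := (mem_basicOpen_iff_pointHom j.2 xs hpsj g).mp hpg
    rwa [hφps] at this
  have hDev : ∀ᶠ t in (F : Filter P), x t (closedPoint (S t).K) ∈ W.basicOpen g := by
    by_contra hn
    rw [← Ultrafilter.eventually_not] at hn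
    refine hgne (Eq.trans (UProd.assemble_apply F K _ hj _ g (fun _ => 0) ?_) (map_zero _))
    filter_upwards [hn] with t ht h
    by_contra hne'
    exact ht ((mem_basicOpen_iff_pointHom j.2 _ (hrK t j h) g).mpr hne')
  have hint : ∀ z : Γ(W, m.1), ∀ᶠ t in (F : Filter P), ∀ h : px t m, η t m h z ∈ Vv t := by
    intro z
    have := j.2.isLocalization_basicOpen g
    obtain ⟨⟨c, ⟨_, n, rfl⟩⟩, hc⟩ := IsLocalization.surj (Submonoid.powers g)
      ((W.presheaf.map (homOfLE hDm).op).hom z)
    have hbD : ∀ {L : Type u} [CommRing L] (r : Spec (CommRingCat.of L) ⟶ W)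
        (hp : Set.range r ⊆ (W.basicOpen g : Set W)),
        (pointHom m.2 r (hp.trans hDm)).hom z * (pointHom j.2 r (hp.trans (W.basicOpen_le g))).hom g ^ n =
        (pointHom j.2 r (hp.trans (W.basicOpen_le g))).hom c := by
      intro L _ r hp
      rw [← pointHom_map m.2 hD hDm r hp, ← pointHom_map j.2 hD (W.basicOpen_le g) r hp]
      have hb' : (W.presheaf.map (homOfLE hDm).op).hom z *
          (W.presheaf.map (homOfLE (W.basicOpen_le g)).op).hom (g ^ n) =
          (W.presheaf.map (homOfLE (W.basicOpen_le g)).op).hom c := hc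
      simpa only [CommRingCat.hom_comp, RingHom.comp_apply, map_mul, map_pow] using
        congrArg (pointHom hD r hp).hom hb'
    have hK := hbD xs (range_subset_of_closedPoint_mem _ hpg)
    rw [hφps, hψps] at hK
    obtain ⟨r, hr, hrz⟩ := (ψ.hom z).2
    change ((ψ.hom z).1 : UProd.Prod F K) * φ g ^ n = φ c at hK
    let gv : ∀ t, K t := fun t => if h : px t j then η t j h g else 0
    let cv : ∀ t, K t := fun t => if h : px t j then η t j h c else 0
    have eg : φ g = UProd.mk F K gv := UProd.assemble_apply F K _ hj _ g gv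
      (Eventually.of_forall fun t h => by simp only [gv, dif_pos h])
    have ec : φ c = UProd.mk F K cv := UProd.assemble_apply F K _ hj _ c cv
      (Eventually.of_forall fun t h => by simp only [cv, dif_pos h])
    rw [← hrz, eg, ec, ← map_pow, ← map_mul, UProd.mk_eq_iff] at hK
    filter_upwards [hK, hDev, hj] with t ht htD htj htm
    have h1 := hbD (x t) (range_subset_of_closedPoint_mem _ htD)
    have hg0 : η t j htj g ≠ 0 := (mem_basicOpen_iff_pointHom j.2 _ (hrK t j htj) g).mp htD
    simp only [Pi.mul_apply, Pi.pow_apply, gv, cv, dif_pos htj] at ht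
    have : η t m htm z = r t := mul_right_cancel₀ (pow_ne_zero n hg0) (Eq.trans h1 ht.symm)
    exact this ▸ hr t
  have hmev : ∀ᶠ t in (F : Filter P), px t m := by
    filter_upwards [hDev] with t ht
    exact hDm ht
  have hft := LocallyOfFiniteType.finiteType_appLE p hA' m.2 (e := le_top)
  algebraize [(p.appLE ⊤ m.1 le_top).hom]
  obtain ⟨G, hG⟩ := hft.out
  obtain ⟨t, ⟨htm, htG⟩, hto⟩ :=
    ((hmev.and ((G.eventually_all).mpr fun z _ => hint z)).and (hq o')).exists
  have hall : ∀ z, η t m htm z ∈ Vv t := by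
    intro z
    have hz : z ∈ Algebra.adjoin Γ(E.obj o, ⊤) (G : Set Γ(W, m.1)) := hG ▸ trivial
    induction hz using Algebra.adjoin_induction with
    | mem z hz => exact htG z hz htm
    | algebraMap r => exact ⟨_, (hη t m htm hto r).symm⟩
    | add y z _ _ hy hz => rw [map_add]; exact add_mem hy hz
    | mul y z _ _ hy hz => rw [map_mul]; exact mul_mem hy hz
  choose e he using hall
  have hinj : Function.Injective (algebraMap (S t).R (S t).K) := IsFractionRing.injective _ _
  let ε : Γ(W, m.1) →+* (S t).R :=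
    { toFun := e
      map_one' := hinj (by rw [he]; simp)
      map_mul' := fun y z => hinj (by rw [map_mul, he, he, he, map_mul])
      map_zero' := hinj (by rw [he]; simp)
      map_add' := fun y z => hinj (by rw [map_add, he, he, he, map_add]) }
  let L := Spec.map (CommRingCat.ofHom ε) ≫ m.2.fromSpec
  have hL : Spec.map (CommRingCat.ofHom (algebraMap (S t).R (S t).K)) ≫ L = x t := by
    rw [← Spec.map_comp_assoc]
    have : CommRingCat.ofHom ε ≫ CommRingCat.ofHom (algebraMap (S t).R (S t).K) = pointHom m.2 (x t) (hrK t m htm) := by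
      ext z; exact he z
    rw [this, SpecMap_pointHom]
  have hLp : L ≫ p = b t ≫ E.map (St t).hom := by
    have e1 : b t ≫ E.map (St t).hom = b t ≫ E.map (T t hto).left := by
      have : (T t hto).left = (St t).hom := by simpa [o'] using Over.w (T t hto)
      rw [this]
    refine Eq.trans ?_ e1.symm
    rw [Category.assoc, ← IsAffineOpen.SpecMap_appLE_fromSpec p hA' m.2 le_top, ← Spec.map_comp_assoc]
    refine (congrArg (fun χ => Spec.map χ ≫ hA'.fromSpec) ?_).trans
      (SpecMap_pointHom (hA o') (b t ≫ E.map (T t hto).left) (by simp))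
    ext z
    exact hinj ((he _).trans (hη t m htm hto z))
  refine hSno (St t) ⟨⟨⟨pullback.lift L (b t) hLp, ?_, ?_⟩⟩⟩
  · apply pullback.hom_ext
    · rw [Category.assoc, pullback.lift_fst]; exact hL
    · rw [Category.assoc, pullback.lift_snd]; exact (S t).commSq.w.symm
  · exact pullback.lift_snd _ _ _

end Groth.Agent.LimProper
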